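import Mathlib.GroupTheory.Sylow
import Mathlib.GroupTheory.SpecificGroups.Alternating
import Mathlib.GroupTheory.Perm.ViaEmbedding
import Mathlib.Algebra.Field.ZMod

/-!
Sections of groups whose Sylow subgroups lie, up to a small index, in an abelian subgroup with a
small automizer.
-/

set_option autoImplicit false
set_option linter.style.haveILetI false

namespace CfsgLib.ToralSection

/-- The `e`-th power of an element normalising an `ℓ`-subgroup centralises it. -/
def AutBound (G : Type*) [Group G] (ℓ e : ℕ) : Prop :=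
  ∀ Q : Subgroup G, IsPGroup ℓ Q → ∀ h : G, (∀ x ∈ Q, h * x * h⁻¹ ∈ Q) →
    ∀ x ∈ Q, Commute (h ^ e) x

variable {G : Type*} [Group G]

theorem autBound_of_torus [Finite G] {ℓ e : ℕ} [Fact ℓ.Prime] (T0 : Subgroup G)
    (hfac : (Nat.card G).factorization ℓ ≤ (Nat.card T0).factorization ℓ)
    (hcell : ∀ g : G, ∃ n : G, (∀ t ∈ T0, g * t * g⁻¹ ∈ T0 → g * t * g⁻¹ = n * t * n⁻¹) ∧
      ∀ t ∈ T0, Commute (n ^ e) t) : AutBound G ℓ e := by
  intro Q hQ h hh
  obtain ⟨S⟩ : Nonempty (Sylow ℓ T0) := inferInstance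
  set P : Subgroup G := (S : Subgroup T0).map T0.subtype with hPdef
  have hP : IsPGroup ℓ P := S.2.map _
  obtain ⟨PS, hPS⟩ := hP.exists_le_sylow
  have hPeq : (PS : Subgroup G) = P := by
    refine (Subgroup.eq_of_le_of_card_ge hPS ?_).symm
    rw [PS.card_eq_multiplicity, hPdef, Subgroup.card_subtype, S.card_eq_multiplicity]
    exact Nat.pow_le_pow_right (Fact.out : ℓ.Prime).pos hfac
  obtain ⟨Q', hQQ'⟩ := hQ.exists_le_sylow
  obtain ⟨g, hg⟩ := MulAction.exists_smul_eq G Q' PS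
  have hmove : ∀ x ∈ Q, g * x * g⁻¹ ∈ T0 := fun x hx => by
    have h1 : g * x * g⁻¹ ∈ ((g • Q' : Sylow ℓ G) : Subgroup G) := by
      rw [Sylow.coe_subgroup_smul]
      exact ⟨x, hQQ' hx, rfl⟩
    rw [hg, hPeq] at h1
    obtain ⟨y, -, hy⟩ := h1
    rw [← hy]
    exact y.2
  obtain ⟨n, hn, hne⟩ := hcell (g * h * g⁻¹)
  have key : ∀ k : ℕ, ∀ x ∈ Q, g * (h ^ k * x * (h ^ k)⁻¹) * g⁻¹ =
      n ^ k * (g * x * g⁻¹) * (n ^ k)⁻¹ := by
    have one : ∀ x ∈ Q, g * (h * x * h⁻¹) * g⁻¹ = n * (g * x * g⁻¹) * n⁻¹ := by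
      intro x hx
      have e1 : g * (h * x * h⁻¹) * g⁻¹ = g * h * g⁻¹ * (g * x * g⁻¹) * (g * h * g⁻¹)⁻¹ := by group
      rw [e1]
      exact hn _ (hmove x hx) (e1 ▸ hmove _ (hh x hx))
    intro k
    induction k with
    | zero => intro x _; simp
    | succ k ih =>
      intro x hx
      rw [pow_succ, pow_succ, show h ^ k * h * x * (h ^ k * h)⁻¹ =
        h ^ k * (h * x * h⁻¹) * (h ^ k)⁻¹ by group, ih _ (hh x hx), one x hx]
      group
  intro x hx
  have e16 := key e x hx
  rw [(hne _ (hmove x hx)).eq, mul_inv_cancel_right, mul_left_inj, mul_right_inj] at e16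
  exact mul_inv_eq_iff_eq_mul.mp e16

/-- An element of prime order of a section is raised to the power `k` only if `k ^ e = 1`. -/
theorem pow_eq_one_of_autBound [Finite G] {A : Type*} [Group A] {ℓ e : ℕ} [Fact ℓ.Prime]
    (hG : AutBound G ℓ e) {H : Subgroup G} {π : H →* A} (hπ : Function.Surjective π) {a b : A}
    (ha : orderOf a = ℓ) {k : ℕ} (hba : b * a * b⁻¹ = a ^ k) : (k : ZMod ℓ) ^ e = 1 := by
  classical
  have hℓ : ℓ.Prime := Fact.out
  obtain ⟨x0, hx0⟩ := hπ a
  set o := orderOf x0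
  set s := o / ℓ ^ o.factorization ℓ
  have ho : 0 < o := orderOf_pos x0
  have hs : ¬ ℓ ∣ s := Nat.not_dvd_ordCompl hℓ ho.ne'
  set x := x0 ^ s
  have hπx : π x = a ^ s := by rw [map_pow, hx0]
  have hx7 : x ^ ℓ ^ o.factorization ℓ = 1 := by
    rw [← pow_mul, Nat.div_mul_cancel (Nat.ordProj_dvd o ℓ), pow_orderOf_eq_one]
  set M : Subgroup H := (Subgroup.zpowers a).comap π
  have hxM : x ∈ M := by
    rw [Subgroup.mem_comap, hπx]; exact pow_mem (Subgroup.mem_zpowers a) s
  obtain ⟨Q, hQ⟩ := (show IsPGroup ℓ (Subgroup.zpowers (⟨x, hxM⟩ : M)) from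
    IsPGroup.of_card_dvd_pow (n := o.factorization ℓ) (by
      rw [Nat.card_zpowers]
      exact orderOf_dvd_of_pow_eq_one (Subtype.ext hx7))).exists_le_sylow
  have hxQ : (⟨x, hxM⟩ : M) ∈ (Q : Subgroup M) := hQ (Subgroup.mem_zpowers _)
  obtain ⟨h0, hh0⟩ := hπ b
  have hM0 : ∀ y ∈ M, h0 * y * h0⁻¹ ∈ M := fun y hy => by
    rw [Subgroup.mem_comap] at hy ⊢
    obtain ⟨j, hj⟩ := Subgroup.mem_zpowers_iff.mp hy
    rw [map_mul, map_mul, map_inv, hh0, ← hj, ← conj_zpow, hba]
    exact Subgroup.zpow_mem _ (pow_mem (Subgroup.mem_zpowers a) k) j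
  let c0 : M →* M := MonoidHom.mk' (fun y => ⟨h0 * y * h0⁻¹, hM0 _ y.2⟩) fun y z =>
    Subtype.ext (by simp [mul_assoc])
  have hc0 : Function.Injective c0 := fun y z e => by
    have := congrArg Subtype.val e
    simpa [c0] using this
  have hcard : Nat.card ((Q : Subgroup M).map c0) = ℓ ^ (Nat.card M).factorization ℓ := by
    rw [← Q.card_eq_multiplicity]
    exact (Nat.card_congr ((Q : Subgroup M).equivMapOfInjective c0 hc0).toEquiv).symm
  obtain ⟨m0, hm0⟩ := MulAction.exists_smul_eq M Q (Sylow.ofCard _ hcard)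
  set h : H := (m0 : H)⁻¹ * h0
  obtain ⟨j, hj⟩ := Subgroup.mem_zpowers_iff.mp (Subgroup.mem_comap.mp m0.2)
  have hha : π h * a * (π h)⁻¹ = a ^ k := by
    rw [map_mul, map_inv, hh0, ← hj]
    calc (a ^ j)⁻¹ * b * a * ((a ^ j)⁻¹ * b)⁻¹ = (a ^ j)⁻¹ * (b * a * b⁻¹) * a ^ j := by group
      _ = a ^ k := by rw [hba]; group
  let QG : Subgroup G := (((Q : Subgroup M).map M.subtype)).map H.subtype
  have hnorm : ∀ y ∈ QG, (h : G) * y * (h : G)⁻¹ ∈ QG := by
    rintro _ ⟨_, ⟨y, hy, rfl⟩, rfl⟩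
    have h1 : c0 y ∈ ((m0 • Q : Sylow ℓ M) : Subgroup M) := by
      rw [hm0]; exact ⟨y, hy, rfl⟩
    rw [Sylow.coe_subgroup_smul] at h1
    obtain ⟨z, hz, hzy⟩ := h1
    refine ⟨_, ⟨z, hz, rfl⟩, ?_⟩
    have e : z = m0⁻¹ * c0 y * m0 := by
      rw [← hzy]
      simp [MulAut.smul_def, mul_assoc]
    rw [e]
    simp [h, c0, mul_assoc]
  have hQG : IsPGroup ℓ QG := (Q.2.map _).map _
  have hcomm := hG QG hQG h hnorm (x : G) ⟨_, ⟨_, hxQ, rfl⟩, rfl⟩
  have h16 : Commute (h ^ e) x := Subtype.ext hcomm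
  have h16' := congrArg π h16.eq
  rw [map_mul, map_mul, map_pow, hπx] at h16'
  have hit : ∀ j : ℕ, π h ^ j * a ^ s * (π h ^ j)⁻¹ = a ^ (k ^ j * s) := by
    intro j
    induction j with
    | zero => simp
    | succ j ih =>
      rw [pow_succ' (π h), show π h * π h ^ j * a ^ s * (π h * π h ^ j)⁻¹ =
        π h * (π h ^ j * a ^ s * (π h ^ j)⁻¹) * (π h)⁻¹ by group, ih, ← conj_pow, hha, ← pow_mul]
      ring_nf
  have e16 := hit e
  rw [h16', mul_inv_cancel_right, pow_eq_pow_iff_modEq, ha] at e16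
  have e2 := (ZMod.natCast_eq_natCast_iff _ _ _).mpr e16
  push_cast at e2
  have hs0 : (s : ZMod ℓ) ≠ 0 := fun h => hs ((CharP.cast_eq_zero_iff (ZMod ℓ) ℓ s).mp h)
  exact mul_right_cancel₀ hs0 (by rw [one_mul]; exact e2.symm)

/-- The smaller alternating groups are sections as well. -/
theorem exists_alt_section {n r : ℕ} (hnr : n ≤ r) {H : Subgroup G}
    {π : H →* alternatingGroup (Fin r)} (hπ : Function.Surjective π) :
    ∃ (H' : Subgroup G) (π' : H' →* alternatingGroup (Fin n)), Function.Surjective π' := by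
  classical
  let ι : Equiv.Perm (Fin n) →* Equiv.Perm (Fin r) :=
    Equiv.Perm.viaEmbeddingHom (Fin.castLEEmb hnr)
  have hι : Function.Injective ι := Equiv.Perm.viaEmbeddingHom_injective _
  have hsign : ∀ s, Equiv.Perm.sign (ι s) = Equiv.Perm.sign s := fun s => by
    show Equiv.Perm.sign (Equiv.Perm.viaEmbedding s _) = _
    rw [Equiv.Perm.viaEmbedding]
    convert Equiv.Perm.sign_extendDomain s _
  let j : alternatingGroup (Fin n) →* alternatingGroup (Fin r) :=
    MonoidHom.mk' (fun s => ⟨ι s.1, by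
      rw [Equiv.Perm.mem_alternatingGroup, hsign]; exact s.2⟩)
      fun s t => Subtype.ext (by simp)
  have hj : Function.Injective j := fun s t e => Subtype.ext (hι (congrArg Subtype.val e))
  set H0 : Subgroup H := j.range.comap π
  have hle : H0.map H.subtype ≤ H := fun x hx => by
    obtain ⟨y, -, rfl⟩ := hx; exact y.2
  let e0 : H0 ≃* H0.map H.subtype := H0.equivMapOfInjective _ H.subtype_injective
  let π0 : H0 →* j.range := (π.comp H0.subtype).codRestrict _ fun y => y.2
  refine ⟨H0.map H.subtype,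
    (MonoidHom.ofInjective hj).symm.toMonoidHom.comp (π0.comp e0.symm.toMonoidHom), ?_⟩
  refine (MonoidHom.ofInjective hj).symm.surjective.comp
    (Function.Surjective.comp (g := π0) (fun z => ?_) e0.symm.surjective)
  obtain ⟨y, hy⟩ := hπ (z : alternatingGroup (Fin r))
  exact ⟨⟨y, show π y ∈ j.range from hy ▸ z.2⟩, Subtype.ext hy⟩

/-- No alternating section of degree `r ≥ n` when the automizers of the `ℓ`-subgroups are small. -/
theorem alt_lt_of_autBound [Finite G] {n ℓ e k : ℕ} [Fact ℓ.Prime] (hG : AutBound G ℓ e)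
    (a b : Equiv.Perm (Fin n)) (ha : Equiv.Perm.sign a = 1) (hb : Equiv.Perm.sign b = 1)
    (haℓ : orderOf a = ℓ) (hba : b * a * b⁻¹ = a ^ k) (hk : (k : ZMod ℓ) ^ e ≠ 1)
    {r : ℕ} (H : Subgroup G) (π : H →* alternatingGroup (Fin r)) (hπ : Function.Surjective π) :
    r < n := by
  by_contra h
  obtain ⟨H', π', hπ'⟩ := exists_alt_section (not_lt.mp h) hπ
  refine hk (pow_eq_one_of_autBound hG hπ'
    (a := ⟨a, Equiv.Perm.mem_alternatingGroup.mpr ha⟩)
    (b := ⟨b, Equiv.Perm.mem_alternatingGroup.mpr hb⟩) ?_ (Subtype.ext hba))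
  rw [← Subgroup.orderOf_coe]
  exact haℓ

/-! ### Two-sections of alternating groups of degree eight -/

/-- The first representative of order four. -/
def c44 : Equiv.Perm (Fin 8) :=
  Equiv.swap 0 1 * Equiv.swap 1 2 * Equiv.swap 2 3 * (Equiv.swap 4 5 * Equiv.swap 5 6 * Equiv.swap 6 7)

/-- The second representative of order four. -/
def c42 : Equiv.Perm (Fin 8) :=
  Equiv.swap 0 1 * Equiv.swap 1 2 * Equiv.swap 2 3 * Equiv.swap 4 5

/-- A generator of the wreath part. -/
def s44 : Equiv.Perm (Fin 8) :=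
  Equiv.swap 0 4 * Equiv.swap 1 5 * Equiv.swap 2 6 * Equiv.swap 3 7

/-- The centraliser of the first representative. -/
def cents44 : List (Equiv.Perm (Fin 8)) :=
  (List.range 4).flatMap fun i => (List.range 4).flatMap fun j => (List.range 2).map fun e =>
    (Equiv.swap 0 1 * Equiv.swap 1 2 * Equiv.swap 2 3) ^ i *
      (Equiv.swap 4 5 * Equiv.swap 5 6 * Equiv.swap 6 7) ^ j * s44 ^ e

/-- The centraliser of the second representative. -/
def cents42 : List (Equiv.Perm (Fin 8)) :=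
  (List.range 4).flatMap fun i => (List.range 2).flatMap fun j => (List.range 2).map fun e =>
    (Equiv.swap 0 1 * Equiv.swap 1 2 * Equiv.swap 2 3) ^ i *
      Equiv.swap 4 5 ^ j * Equiv.swap 6 7 ^ e

theorem cents_spec44 : ∀ i j : Fin 4, ∀ e : Fin 2, (i.val + j.val) % 2 = 0 →
    let p := (Equiv.swap (0 : Fin 8) 1 * Equiv.swap 1 2 * Equiv.swap 2 3) ^ i.val *
      (Equiv.swap 4 5 * Equiv.swap 5 6 * Equiv.swap 6 7) ^ j.val * s44 ^ e.val
    (∀ k, p (p (p (p k))) = k) → (∃ k, p (p k) ≠ k) → ∀ k, p (p k) = c44 (c44 k) := by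
  decide +kernel

theorem cents_spec42 : ∀ i : Fin 4, ∀ j e : Fin 2,
    let p := (Equiv.swap (0 : Fin 8) 1 * Equiv.swap 1 2 * Equiv.swap 2 3) ^ i.val *
      Equiv.swap 4 5 ^ j.val * Equiv.swap 6 7 ^ e.val
    (∀ k, p (p (p (p k))) = k) → (∃ k, p (p k) ≠ k) → ∀ k, p (p k) = c42 (c42 k) := by
  decide +kernel

theorem cents_spec :
    (∀ p ∈ cents44, Equiv.Perm.sign p = 1 → p ^ 4 = 1 → p ^ 2 ≠ 1 → p ^ 2 = c44 ^ 2) ∧
      ∀ p ∈ cents42, p ^ 4 = 1 → p ^ 2 ≠ 1 → p ^ 2 = c42 ^ 2 := by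
  have h4 : ∀ p : Equiv.Perm (Fin 8), p ^ 4 = 1 → ∀ k, p (p (p (p k))) = k := fun p hp k => by
    have := DFunLike.congr_fun hp k
    simpa [pow_succ, Equiv.Perm.mul_apply] using this
  have h2 : ∀ p : Equiv.Perm (Fin 8), p ^ 2 ≠ 1 → ∃ k, p (p k) ≠ k := fun p hp => by
    by_contra hc
    push Not at hc
    exact hp (Equiv.ext fun k => by simpa [pow_two, Equiv.Perm.mul_apply] using hc k)
  refine ⟨fun p hp hs hp4 hp2 => ?_, fun p hp hp4 hp2 => ?_⟩
  · simp only [cents44, List.mem_flatMap, List.mem_map, List.mem_range] at hp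
    obtain ⟨i, hi, j, hj, e, he, rfl⟩ := hp
    have hpar : (i + j) % 2 = 0 := by
      simp only [map_mul, map_pow, s44, Equiv.Perm.sign_swap (show (0 : Fin 8) ≠ 1 by decide),
        Equiv.Perm.sign_swap (show (1 : Fin 8) ≠ 2 by decide),
        Equiv.Perm.sign_swap (show (2 : Fin 8) ≠ 3 by decide),
        Equiv.Perm.sign_swap (show (4 : Fin 8) ≠ 5 by decide),
        Equiv.Perm.sign_swap (show (5 : Fin 8) ≠ 6 by decide),
        Equiv.Perm.sign_swap (show (6 : Fin 8) ≠ 7 by decide),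
        Equiv.Perm.sign_swap (show (0 : Fin 8) ≠ 4 by decide),
        Equiv.Perm.sign_swap (show (1 : Fin 8) ≠ 5 by decide),
        Equiv.Perm.sign_swap (show (2 : Fin 8) ≠ 6 by decide),
        Equiv.Perm.sign_swap (show (3 : Fin 8) ≠ 7 by decide)] at hs
      revert hs
      interval_cases i <;> interval_cases j <;> interval_cases e <;> decide
    exact Equiv.ext fun k => by
      simpa [pow_two, Equiv.Perm.mul_apply] using
        cents_spec44 ⟨i, hi⟩ ⟨j, hj⟩ ⟨e, he⟩ hpar (h4 _ hp4) (h2 _ hp2) k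
  · simp only [cents42, List.mem_flatMap, List.mem_map, List.mem_range] at hp
    obtain ⟨i, hi, j, hj, e, he, rfl⟩ := hp
    exact Equiv.ext fun k => by
      simpa [pow_two, Equiv.Perm.mul_apply] using
        cents_spec42 ⟨i, hi⟩ ⟨j, hj⟩ ⟨e, he⟩ (h4 _ hp4) (h2 _ hp2) k

theorem mem_cents44 {y : Equiv.Perm (Fin 8)} (hy : y * c44 = c44 * y) : y ∈ cents44 := by
  have key : ∀ u v : Fin 8,
      (¬ List.Nodup [u, c44 u, c44 (c44 u), c44 (c44 (c44 u)), v, c44 v, c44 (c44 v),
        c44 (c44 (c44 v))]) ∨ ∃ p ∈ cents44, p 0 = u ∧ c44 u = p 1 ∧ c44 (c44 u) = p 2 ∧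
          c44 (c44 (c44 u)) = p 3 ∧ p 4 = v ∧ c44 v = p 5 ∧ c44 (c44 v) = p 6 ∧
          c44 (c44 (c44 v)) = p 7 := by
    decide +kernel
  have h1 : ∀ i, y (c44 i) = c44 (y i) := fun i => DFunLike.congr_fun hy i
  have e1 : y 1 = c44 (y 0) := by rw [← h1]; rfl
  have e2 : y 2 = c44 (c44 (y 0)) := by rw [← h1, ← h1]; rfl
  have e3 : y 3 = c44 (c44 (c44 (y 0))) := by rw [← h1, ← h1, ← h1]; rfl
  have e5 : y 5 = c44 (y 4) := by rw [← h1]; rfl
  have e6 : y 6 = c44 (c44 (y 4)) := by rw [← h1, ← h1]; rfl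
  have e7 : y 7 = c44 (c44 (c44 (y 4))) := by rw [← h1, ← h1, ← h1]; rfl
  rcases key (y 0) (y 4) with hn | ⟨p, hp, q0, q1, q2, q3, q4, q5, q6, q7⟩
  · refine absurd ?_ hn
    rw [← e3, ← e2, ← e1, ← e7, ← e6, ← e5]
    exact List.Nodup.map y.injective (show [0, 1, 2, 3, 4, 5, 6, (7 : Fin 8)].Nodup by decide)
  · rw [← e1] at q1; rw [← e2] at q2; rw [← e3] at q3; rw [← e5] at q5; rw [← e6] at q6
    rw [← e7] at q7
    refine (show y = p from Equiv.ext fun i => ?_) ▸ hp
    fin_cases i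
    exacts [q0.symm, q1, q2, q3, q4.symm, q5, q6, q7]

theorem mem_cents42 {y : Equiv.Perm (Fin 8)} (hy : y * c42 = c42 * y) : y ∈ cents42 := by
  have key : ∀ u v w z : Fin 8,
      u = c42 u ∨ c42 (c42 u) = u ∨ v = c42 v ∨ c42 (c42 v) ≠ v ∨ c42 w ≠ w ∨ c42 z ≠ z ∨ w = z ∨
      ∃ p ∈ cents42, p 0 = u ∧ c42 u = p 1 ∧ c42 (c42 u) = p 2 ∧
          c42 (c42 (c42 u)) = p 3 ∧ p 4 = v ∧ c42 v = p 5 ∧ p 6 = w ∧ p 7 = z := by
    decide +kernel
  have h1 : ∀ i, y (c42 i) = c42 (y i) := fun i => DFunLike.congr_fun hy i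
  have e1 : y 1 = c42 (y 0) := by rw [← h1]; rfl
  have e2 : y 2 = c42 (c42 (y 0)) := by rw [← h1, ← h1]; rfl
  have e3 : y 3 = c42 (c42 (c42 (y 0))) := by rw [← h1, ← h1, ← h1]; rfl
  have e5 : y 5 = c42 (y 4) := by rw [← h1]; rfl
  have hne : ∀ {i j : Fin 8}, i ≠ j → y i ≠ y j := fun h e => h (y.injective e)
  rcases key (y 0) (y 4) (y 6) (y 7) with h | h | h | h | h | h | h | ⟨p, hp, q⟩
  · rw [← e1] at h; exact absurd h (hne (by decide))
  · rw [← e2] at h; exact absurd h (hne (by decide))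
  · rw [← e5] at h; exact absurd h (hne (by decide))
  · exact absurd (by rw [← h1, ← h1]; rfl) h
  · exact absurd (by rw [← h1]; rfl) h
  · exact absurd (by rw [← h1]; rfl) h
  · exact absurd h (hne (by decide))
  · obtain ⟨q0, q1, q2, q3, q4, q5, q6, q7⟩ := q
    rw [← e1] at q1; rw [← e2] at q2; rw [← e3] at q3; rw [← e5] at q5
    refine (show y = p from Equiv.ext fun i => ?_) ▸ hp
    fin_cases i
    exacts [q0.symm, q1, q2, q3, q4.symm, q5, q6.symm, q7.symm]

/-- Two commuting elements of order four of `A₈` have the same square. -/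
theorem sq_eq_sq {x y : Equiv.Perm (Fin 8)} (hx : Equiv.Perm.sign x = 1)
    (hy : Equiv.Perm.sign y = 1) (hxy : Commute x y) (hx4 : x ^ 4 = 1) (hy4 : y ^ 4 = 1)
    (hx2 : x ^ 2 ≠ 1) (hy2 : y ^ 2 ≠ 1) : x ^ 2 = y ^ 2 := by
  classical
  have hord : orderOf x = 4 := orderOf_eq_prime_pow (p := 2) (n := 1) (by simpa using hx2) hx4
  have hmem : ∀ k ∈ x.cycleType, k = 2 ∨ k = 4 := fun k hk => by
    have h1 := Equiv.Perm.two_le_of_mem_cycleType hk
    have h2 := Equiv.Perm.dvd_of_mem_cycleType hk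
    rw [hord] at h2
    have := Nat.le_of_dvd (by norm_num) h2
    interval_cases k <;> revert h2 <;> decide
  have h4 : 4 ∈ x.cycleType := by
    by_contra h
    refine hx2 (orderOf_dvd_iff_pow_eq_one.mp ?_)
    rw [← Equiv.Perm.lcm_cycleType]
    exact Multiset.lcm_dvd.mpr fun k hk => by
      rcases hmem k hk with rfl | rfl
      · exact dvd_rfl
      · exact absurd hk h
  have hcount : x.cycleType =
      Multiset.replicate (x.cycleType.count 2) 2 + Multiset.replicate (x.cycleType.count 4) 4 := by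
    refine Multiset.ext.mpr fun k => ?_
    rw [Multiset.count_add, Multiset.count_replicate, Multiset.count_replicate]
    by_cases h2' : 2 = k
    · subst h2'; simp
    by_cases h4' : 4 = k
    · subst h4'; simp
    rw [if_neg h2', if_neg h4', Multiset.count_eq_zero.mpr fun hk => by
      rcases hmem k hk with rfl | rfl <;> simp at h2' h4']
  set i := x.cycleType.count 2
  set j := x.cycleType.count 4
  have hj : 1 ≤ j := Multiset.one_le_count_iff_mem.mpr h4
  have hsum : 2 * i + 4 * j ≤ 8 := by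
    have h := Equiv.Perm.sum_cycleType x ▸ Finset.card_le_univ x.support
    rw [hcount] at h
    simp only [Multiset.sum_add, Multiset.sum_replicate, smul_eq_mul, Fintype.card_fin] at h
    omega
  have hpar : Even (i + j) := by
    have h := hx
    rw [Equiv.Perm.sign_of_cycleType, hcount] at h
    simp only [Multiset.sum_add, Multiset.sum_replicate, Multiset.card_add, Multiset.card_replicate,
      smul_eq_mul] at h
    by_contra hodd
    rw [Odd.neg_one_pow (by rcases Nat.not_even_iff_odd.mp hodd with ⟨t, ht⟩; exact ⟨i + 2 * j + t, by omega⟩)]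
      at h
    exact absurd h (by decide)
  have hconj : IsConj x c44 ∨ IsConj x c42 := by
    rw [Equiv.Perm.isConj_iff_cycleType_eq, Equiv.Perm.isConj_iff_cycleType_eq, hcount]
    obtain ⟨t, ht⟩ := hpar
    have : (i = 0 ∧ j = 2) ∨ (i = 1 ∧ j = 1) := by omega
    rcases this with ⟨hi, hj⟩ | ⟨hi, hj⟩
    · left; rw [hi, hj]; decide +kernel
    · right; rw [hi, hj]; decide +kernel
  have conj : ∀ (g z : Equiv.Perm (Fin 8)) (n : ℕ), (g * z * g⁻¹) ^ n = g * z ^ n * g⁻¹ :=
    fun g z n => conj_pow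
  rcases hconj with h | h <;> obtain ⟨g, hg⟩ := isConj_iff.mp h
  · have hc : g * y * g⁻¹ * c44 = c44 * (g * y * g⁻¹) := by
      rw [← hg]; calc g * y * g⁻¹ * (g * x * g⁻¹) = g * (y * x) * g⁻¹ := by group
        _ = _ := by rw [← hxy.eq]; group
    have e := cents_spec.1 _ (mem_cents44 hc) (by simp [hy]) (by rw [conj, hy4]; group)
      (fun e => hy2 (by rwa [conj, conj_eq_one_iff] at e))
    rw [← hg, conj, conj, mul_left_inj, mul_right_inj] at e
    exact e.symm
  · have hc : g * y * g⁻¹ * c42 = c42 * (g * y * g⁻¹) := by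
      rw [← hg]; calc g * y * g⁻¹ * (g * x * g⁻¹) = g * (y * x) * g⁻¹ := by group
        _ = _ := by rw [← hxy.eq]; group
    have e := cents_spec.2 _ (mem_cents42 hc) (by rw [conj, hy4]; group)
      (fun e => hy2 (by rwa [conj, conj_eq_one_iff] at e))
    rw [← hg, conj, conj, mul_left_inj, mul_right_inj] at e
    exact e.symm

/-- Commuting elements generate at most the product of their orders. -/
theorem card_closure_pair_le {M : Type*} [Group M] [Finite M] {x y : M} (h : Commute x y) :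
    Nat.card (Subgroup.closure {x, y}) ≤ orderOf x * orderOf y := by
  let f : Subgroup.zpowers x × Subgroup.zpowers y → Subgroup.closure ({x, y} : Set M) := fun p =>
    ⟨p.1 * p.2, mul_mem
      (Subgroup.zpowers_le.mpr
        (Subgroup.subset_closure (by simp)) p.1.2)
      (Subgroup.zpowers_le.mpr
        (Subgroup.subset_closure (by simp)) p.2.2)⟩
  have hf : Function.Surjective f := by
    rintro ⟨z, hz⟩
    suffices ∃ i j : ℤ, z = x ^ i * y ^ j by
      obtain ⟨i, j, rfl⟩ := this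
      exact ⟨(⟨_, i, rfl⟩, ⟨_, j, rfl⟩), rfl⟩
    induction hz using Subgroup.closure_induction with
    | mem w hw =>
      rcases hw with rfl | rfl
      · exact ⟨1, 0, by simp⟩
      · exact ⟨0, 1, by simp⟩
    | one => exact ⟨0, 0, by simp⟩
    | mul a b _ _ ha hb =>
      obtain ⟨i, j, rfl⟩ := ha
      obtain ⟨i', j', rfl⟩ := hb
      refine ⟨i + i', j + j', ?_⟩
      rw [_root_.zpow_add, _root_.zpow_add]
      have := ((h.zpow_zpow i' j)).eq
      calc x ^ i * y ^ j * (x ^ i' * y ^ j') = x ^ i * (y ^ j * x ^ i') * y ^ j' := by group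
        _ = _ := by rw [← this]; group
    | inv a _ ha =>
      obtain ⟨i, j, rfl⟩ := ha
      refine ⟨-i, -j, ?_⟩
      rw [_root_.mul_inv_rev, ← _root_.zpow_neg, ← _root_.zpow_neg]
      exact ((h.zpow_zpow (-i) (-j))).eq.symm
  refine (Nat.card_le_card_of_surjective f hf).trans (le_of_eq ?_)
  rw [Nat.card_prod, Nat.card_zpowers, Nat.card_zpowers]

/-- Two generated abelian two-subgroups of `A₈` have order at most eight. -/
theorem card_closure_le_eight {x y : alternatingGroup (Fin 8)} (hxy : Commute x y)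
    (hx : orderOf x ∣ 2 ^ 6) (hy : orderOf y ∣ 2 ^ 6) :
    Nat.card (Subgroup.closure {x, y}) ≤ 8 := by
  classical
  have hfour : ∀ z : alternatingGroup (Fin 8), orderOf z ∣ 2 ^ 6 → z ^ 4 = 1 := by
    intro z hz
    rw [← Subgroup.orderOf_coe] at hz
    have key : ∀ k ∈ (z : Equiv.Perm (Fin 8)).cycleType, k ∣ 4 := fun k hk => by
      obtain ⟨j, hj, rfl⟩ := (Nat.dvd_prime_pow Nat.prime_two).mp
        ((Equiv.Perm.dvd_of_mem_cycleType hk).trans hz)
      have hle : 2 ^ j ≤ 8 := (Multiset.le_sum_of_mem hk).trans (by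
        rw [Equiv.Perm.sum_cycleType]
        exact (Finset.card_le_univ _).trans_eq (Fintype.card_fin 8))
      have hj3 : j ≤ 3 := by
        by_contra h
        have := Nat.pow_le_pow_right two_pos (show 4 ≤ j by omega)
        omega
      rcases Nat.lt_or_ge j 3 with h | h
      · exact pow_dvd_pow 2 (by omega : j ≤ 2)
      · exfalso
        obtain rfl : j = 3 := by omega
        obtain ⟨t, ht⟩ := Multiset.exists_cons_of_mem hk
        have hsum : (z : Equiv.Perm (Fin 8)).cycleType.sum ≤ 8 := by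
          rw [Equiv.Perm.sum_cycleType]
          exact (Finset.card_le_univ _).trans_eq (Fintype.card_fin 8)
        rw [ht, Multiset.sum_cons] at hsum
        have ht0 : t = 0 := by
          refine Multiset.eq_zero_of_forall_notMem fun w hw => ?_
          have h1 := Multiset.le_sum_of_mem hw
          have h2 := Equiv.Perm.two_le_of_mem_cycleType
            (σ := (z : Equiv.Perm (Fin 8))) (n := w) (by rw [ht]; exact Multiset.mem_cons_of_mem hw)
          omega
        have hs := Equiv.Perm.mem_alternatingGroup.mp z.2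
        rw [Equiv.Perm.sign_of_cycleType, ht, ht0] at hs
        exact absurd hs (by decide)
    refine Subtype.ext ?_
    rw [Subgroup.coe_pow, OneMemClass.coe_one, ← orderOf_dvd_iff_pow_eq_one,
      ← Equiv.Perm.lcm_cycleType]
    exact Multiset.lcm_dvd.mpr key
  have hx4 := hfour x hx
  have hy4 := hfour y hy
  have hbound : ∀ u v : alternatingGroup (Fin 8), Commute u v → u ^ 4 = 1 → v ^ 2 = 1 →
      Nat.card (Subgroup.closure {u, v}) ≤ 8 := fun u v huv hu hv =>
    (card_closure_pair_le huv).trans (le_trans (Nat.mul_le_mul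
      (Nat.le_of_dvd (by norm_num) (orderOf_dvd_of_pow_eq_one hu))
      (Nat.le_of_dvd (by norm_num) (orderOf_dvd_of_pow_eq_one hv))) le_rfl)
  by_cases hx2 : x ^ 2 = 1
  · rw [Set.pair_comm]
    exact hbound y x hxy.symm hy4 hx2
  by_cases hy2 : y ^ 2 = 1
  · exact hbound x y hxy hx4 hy2
  have hsq : x ^ 2 = y ^ 2 := Subtype.ext (sq_eq_sq (Equiv.Perm.mem_alternatingGroup.mp x.2)
    (Equiv.Perm.mem_alternatingGroup.mp y.2) (congrArg Subtype.val hxy.eq)
    (congrArg Subtype.val hx4) (congrArg Subtype.val hy4) (fun e => hx2 (Subtype.ext e))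
    (fun e => hy2 (Subtype.ext e)))
  set z := x⁻¹ * y with hz
  have hxz : Commute x z := (Commute.refl x).inv_right.mul_right hxy
  have hz2 : z ^ 2 = 1 := by
    rw [hz, (hxy.inv_left).mul_pow, inv_pow, hsq, inv_mul_cancel]
  have hcl : Subgroup.closure {x, y} ≤ Subgroup.closure {x, z} := by
    refine (Subgroup.closure_le _).mpr ?_
    rintro w (rfl | rfl)
    · exact Subgroup.subset_closure (by simp)
    · rw [SetLike.mem_coe, show w = x * z by simp [hz]]
      exact mul_mem (Subgroup.subset_closure (by simp)) (Subgroup.subset_closure (by simp))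
  exact (Subgroup.card_le_of_le hcl).trans (hbound x z hxz hx4 hz2) |>.trans le_rfl

/-- No section of type `A₈` when an abelian subgroup all of whose subgroups are generated by two
elements carries all but two bits of the two-part of the order. -/
theorem alt_lt_eight [Finite G] (T0 : Subgroup G) (hcomm : ∀ x ∈ T0, ∀ y ∈ T0, Commute x y)
    (hgen : ∀ B : Subgroup G, B ≤ T0 → ∃ u v, B = Subgroup.closure {u, v})
    (hfac : (Nat.card G).factorization 2 ≤ (Nat.card T0).factorization 2 + 2)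
    {r : ℕ} (H : Subgroup G) (π : H →* alternatingGroup (Fin r)) (hπ : Function.Surjective π) :
    r < 8 := by
  classical
  haveI := Fact.mk Nat.prime_two
  by_contra h
  obtain ⟨H', π', hπ'⟩ := exists_alt_section (not_lt.mp h) hπ
  obtain ⟨S0⟩ : Nonempty (Sylow 2 T0) := inferInstance
  set A : Subgroup G := (S0 : Subgroup T0).map T0.subtype with hA
  obtain ⟨S, hAS⟩ := (show IsPGroup 2 A from S0.2.map _).exists_le_sylow
  have hSA : Nat.card S ≤ Nat.card A * 4 := by
    rw [S.card_eq_multiplicity, hA, Subgroup.card_subtype, S0.card_eq_multiplicity,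
      show (4 : ℕ) = 2 ^ 2 from rfl, ← pow_add]
    exact Nat.pow_le_pow_right two_pos hfac
  obtain ⟨Q⟩ : Nonempty (Sylow 2 H') := inferInstance
  have hQG : IsPGroup 2 ((Q : Subgroup H').map H'.subtype) := Q.2.map _
  obtain ⟨S', hQS'⟩ := hQG.exists_le_sylow
  obtain ⟨g, hg⟩ := MulAction.exists_smul_eq G S' S
  -- the part of `Q` moved into `A`
  let c : H' →* G := (MulAut.conj g).toMonoidHom.comp H'.subtype
  set Q0 : Subgroup H' := (Q : Subgroup H') ⊓ A.comap c with hQ0
  have hcS : ∀ q ∈ (Q : Subgroup H'), c q ∈ (S : Subgroup G) := fun q hq => by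
    rw [← hg, Sylow.coe_subgroup_smul]
    exact ⟨(q : G), hQS' ⟨q, hq, rfl⟩, rfl⟩
  let d : (Q : Subgroup H') →* (S : Subgroup G) :=
    (c.comp (Q : Subgroup H').subtype).codRestrict _ fun q => hcS _ q.2
  have hindex : Q0.relIndex (Q : Subgroup H') ≤ 4 := by
    have e : Q0.subgroupOf (Q : Subgroup H') = (A.subgroupOf (S : Subgroup G)).comap d := by
      ext q
      simp [hQ0, Subgroup.mem_subgroupOf, d]
    rw [Subgroup.relIndex, e, Subgroup.index_comap]
    refine le_trans (Subgroup.relIndex_le_of_le_right le_top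
      (by rw [Subgroup.relIndex_top_right]; exact Subgroup.index_ne_zero_of_finite)) ?_
    rw [Subgroup.relIndex_top_right]
    have hmul := (A.subgroupOf (S : Subgroup G)).card_mul_index
    rw [Nat.card_congr (Subgroup.subgroupOfEquivOfLe hAS).toEquiv] at hmul
    have hA0 : 0 < Nat.card A := Nat.card_pos
    nlinarith
  -- the images
  have hQimg : Nat.card ((Q : Subgroup H').map π') = 64 := by
    have e := (Q.mapSurjective hπ').card_eq_multiplicity
    rw [Sylow.coe_mapSurjective] at e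
    rw [e, nat_card_alternatingGroup, Nat.card_eq_fintype_card, Fintype.card_fin]
    decide +kernel
  have hrel : (Q0.map π').relIndex ((Q : Subgroup H').map π') ≤ 4 := by
    have e : (Q0.map π').subgroupOf ((Q : Subgroup H').map π') =
        (Q0.subgroupOf (Q : Subgroup H')).map (π'.subgroupMap (Q : Subgroup H')) := by
      ext ⟨z, hz⟩
      simp only [Subgroup.mem_subgroupOf, Subgroup.mem_map, Subtype.ext_iff]
      constructor
      · rintro ⟨q, hq, e⟩
        exact ⟨⟨q, hq.1⟩, hq, e⟩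
      · rintro ⟨q, hq, e⟩
        exact ⟨q, hq, e⟩
    refine le_trans (Nat.le_of_dvd (Nat.pos_of_ne_zero Subgroup.index_ne_zero_of_finite) ?_) hindex
    rw [Subgroup.relIndex, e]
    exact Subgroup.index_map_dvd _ (π'.subgroupMap_surjective _)
  have h16 : 16 ≤ Nat.card (Q0.map π') := by
    have hmul := Subgroup.card_mul_index ((Q0.map π').subgroupOf ((Q : Subgroup H').map π'))
    rw [Nat.card_congr (Subgroup.subgroupOfEquivOfLe (Subgroup.map_mono inf_le_left)).toEquiv,
      hQimg] at hmul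
    rw [Subgroup.relIndex] at hrel
    nlinarith
  -- two generators
  obtain ⟨u, v, huv⟩ := hgen (Q0.map c) (by
    rintro _ ⟨q, hq, rfl⟩
    obtain ⟨y, -, hy⟩ := (hq.2 : c q ∈ A)
    exact hy ▸ y.2)
  have hcinj : Function.Injective c := (MulAut.conj g).injective.comp H'.subtype_injective
  obtain ⟨u', hu', eu⟩ : u ∈ Q0.map c := huv ▸ Subgroup.subset_closure (by simp)
  obtain ⟨v', hv', ev⟩ : v ∈ Q0.map c := huv ▸ Subgroup.subset_closure (by simp)
  have hQ0c : Q0 = Subgroup.closure {u', v'} := by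
    refine Subgroup.map_injective hcinj ?_
    rw [huv, MonoidHom.map_closure, Set.image_pair, eu, ev]
  have hcomm' : Commute u' v' := by
    refine hcinj ?_
    rw [map_mul, map_mul, eu, ev]
    refine (hcomm _ ?_ _ ?_).eq
    · obtain ⟨y, -, hy⟩ := (hu'.2 : c u' ∈ A); rw [← eu, ← hy]; exact y.2
    · obtain ⟨y, -, hy⟩ := (hv'.2 : c v' ∈ A); rw [← ev, ← hy]; exact y.2
  have hord : ∀ q ∈ Q0, orderOf (π' q) ∣ 2 ^ 6 := fun q hq => by
    rw [show (2 : ℕ) ^ 6 = Nat.card ((Q : Subgroup H').map π') by rw [hQimg]; norm_num,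
      ← Subgroup.orderOf_mk (π' q) (Subgroup.mem_map_of_mem π' hq.1)]
    exact orderOf_dvd_natCard _
  rw [hQ0c, MonoidHom.map_closure, Set.image_pair] at h16
  have := card_closure_le_eight (hcomm'.map π') (hord _ hu') (hord _ hv')
  omega

/-- Subgroups of an abelian extension of cyclic groups are generated by two elements. -/
theorem two_generated {A C : Type*} [CommGroup A] [Group C] [IsCyclic C] (f : A →* C)
    [IsCyclic f.ker] (B : Subgroup A) : ∃ u v, B = Subgroup.closure {u, v} := by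
  obtain ⟨⟨c, hc⟩, hgen⟩ := IsCyclic.exists_generator (α := B.map f)
  obtain ⟨u, hu, rfl⟩ := hc
  obtain ⟨⟨⟨v, hvk⟩, hvB⟩, hv⟩ := IsCyclic.exists_generator (α := B.subgroupOf f.ker)
  refine ⟨u, v, le_antisymm (fun b hb => ?_) ((Subgroup.closure_le _).mpr ?_)⟩
  · obtain ⟨i, hi⟩ := Subgroup.mem_zpowers_iff.mp (hgen ⟨f b, b, hb, rfl⟩)
    have hi' : f u ^ i = f b := congrArg Subtype.val hi
    have hk : (u ^ i)⁻¹ * b ∈ f.ker := by
      rw [MonoidHom.mem_ker, map_mul, map_inv, map_zpow, hi', inv_mul_cancel]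
    obtain ⟨j, hj⟩ := Subgroup.mem_zpowers_iff.mp
      (hv ⟨⟨_, hk⟩, mul_mem (inv_mem (Subgroup.zpow_mem _ hu i)) hb⟩)
    have hj' : v ^ j = (u ^ i)⁻¹ * b := congrArg (fun z : B.subgroupOf f.ker => ((z : f.ker) : A)) hj
    rw [show b = u ^ i * v ^ j by rw [hj', mul_inv_cancel_left]]
    exact mul_mem (Subgroup.zpow_mem _ (Subgroup.subset_closure (by simp)) i)
      (Subgroup.zpow_mem _ (Subgroup.subset_closure (by simp)) j)
  · rintro w (rfl | rfl)
    · exact hu
    · exact Subgroup.mem_subgroupOf.mp hvB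

end CfsgLib.ToralSection
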