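import Cfsg.Agent.ToralSection.Basic

/-!
Lifting normalisers to `ℓ`-subgroups, and pairs of commuting subgroups moved into a torus.
-/

set_option autoImplicit false
set_option linter.style.haveILetI false

namespace CfsgLib.ToralSection

/-- A subgroup of prime order of an image is covered by an `ℓ`-subgroup whose normaliser covers the
normaliser of that subgroup. -/
theorem exists_lift {H A : Type*} [Group H] [Finite H] [Group A] {ℓ : ℕ} [Fact ℓ.Prime]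
    (π : H →* A) {a : A} (ha : orderOf a = ℓ) (har : a ∈ π.range) :
    ∃ Q : Subgroup H, IsPGroup ℓ Q ∧ (∃ x ∈ Q, π x = a) ∧
      ∀ b ∈ π.range, b * a * b⁻¹ ∈ Subgroup.zpowers a →
        ∃ h, π h = b ∧ ∀ y ∈ Q, h * y * h⁻¹ ∈ Q := by
  classical
  have hℓ : ℓ.Prime := Fact.out
  obtain ⟨x0, hx0⟩ := har
  set o := orderOf x0
  set s := o / ℓ ^ o.factorization ℓ
  have hs : ¬ ℓ ∣ s := Nat.not_dvd_ordCompl hℓ (orderOf_pos x0).ne'
  obtain ⟨i, hi⟩ : ∃ i : ℕ, a ^ (s * i) = a := by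
    obtain ⟨i, -, hi⟩ := Nat.exists_mul_mod_eq_one_of_coprime
      ((hℓ.coprime_iff_not_dvd.mpr hs).symm) hℓ.one_lt
    exact ⟨i, by rw [← pow_mod_orderOf, ha, hi, pow_one]⟩
  set x := x0 ^ (s * i)
  have hπx : π x = a := by rw [map_pow, hx0, hi]
  have hx7 : x ^ ℓ ^ o.factorization ℓ = 1 := by
    rw [← pow_mul, mul_right_comm, Nat.div_mul_cancel (Nat.ordProj_dvd o ℓ), pow_mul,
      pow_orderOf_eq_one, one_pow]
  set M : Subgroup H := (Subgroup.zpowers a).comap π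
  have hxM : x ∈ M := by rw [Subgroup.mem_comap, hπx]; exact Subgroup.mem_zpowers a
  obtain ⟨Q, hQ⟩ := (show IsPGroup ℓ (Subgroup.zpowers (⟨x, hxM⟩ : M)) from
    IsPGroup.of_card_dvd_pow (n := o.factorization ℓ) (by
      rw [Nat.card_zpowers]
      exact orderOf_dvd_of_pow_eq_one (Subtype.ext hx7))).exists_le_sylow
  have hxQ : (⟨x, hxM⟩ : M) ∈ (Q : Subgroup M) := hQ (Subgroup.mem_zpowers _)
  refine ⟨(Q : Subgroup M).map M.subtype, Q.2.map _, ⟨x, ⟨_, hxQ, rfl⟩, hπx⟩, fun b hb hba => ?_⟩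
  obtain ⟨h0, hh0⟩ := hb
  obtain ⟨k, hk⟩ := Subgroup.mem_zpowers_iff.mp hba
  have hM0 : ∀ y ∈ M, h0 * y * h0⁻¹ ∈ M := fun y hy => by
    rw [Subgroup.mem_comap] at hy ⊢
    obtain ⟨j, hj⟩ := Subgroup.mem_zpowers_iff.mp hy
    rw [map_mul, map_mul, map_inv, hh0, ← hj, ← conj_zpow, ← hk]
    exact Subgroup.zpow_mem _ (Subgroup.zpow_mem _ (Subgroup.mem_zpowers a) k) j
  let c0 : M →* M := MonoidHom.mk' (fun y => ⟨h0 * y * h0⁻¹, hM0 _ y.2⟩) fun y z =>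
    Subtype.ext (by simp [mul_assoc])
  have hc0 : Function.Injective c0 := fun y z e => by
    have := congrArg Subtype.val e
    simpa [c0] using this
  have hcard : Nat.card ((Q : Subgroup M).map c0) = ℓ ^ (Nat.card M).factorization ℓ := by
    rw [← Q.card_eq_multiplicity]
    exact (Nat.card_congr ((Q : Subgroup M).equivMapOfInjective c0 hc0).toEquiv).symm
  obtain ⟨m0, hm0⟩ := MulAction.exists_smul_eq M Q (Sylow.ofCard _ hcard)
  obtain ⟨j, hj⟩ := Subgroup.mem_zpowers_iff.mp (Subgroup.mem_comap.mp m0.2)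
  refine ⟨x ^ j * ((m0 : H)⁻¹ * h0), ?_, fun y hy => ?_⟩
  · rw [map_mul, map_mul, map_inv, map_zpow, hπx, hh0, ← hj, mul_inv_cancel_left]
  · have hxj : x ^ j ∈ (Q : Subgroup M).map M.subtype :=
      Subgroup.zpow_mem _ (show x ∈ (Q : Subgroup M).map M.subtype from ⟨_, hxQ, rfl⟩) j
    obtain ⟨y, hy, rfl⟩ := hy
    have h1 : c0 y ∈ ((m0 • Q : Sylow ℓ M) : Subgroup M) := by
      rw [hm0]; exact ⟨y, hy, rfl⟩
    rw [Sylow.coe_subgroup_smul] at h1
    obtain ⟨z, hz, hzy⟩ := h1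
    have e : z = m0⁻¹ * c0 y * m0 := by
      rw [← hzy]
      simp [MulAut.smul_def, mul_assoc]
    have hmid : (m0 : H)⁻¹ * h0 * M.subtype y * ((m0 : H)⁻¹ * h0)⁻¹ ∈
        (Q : Subgroup M).map M.subtype :=
      ⟨z, hz, by rw [e]; simp [c0, mul_assoc]⟩
    rw [show x ^ j * ((m0 : H)⁻¹ * h0) * M.subtype y * (x ^ j * ((m0 : H)⁻¹ * h0))⁻¹ =
      x ^ j * ((m0 : H)⁻¹ * h0 * M.subtype y * ((m0 : H)⁻¹ * h0)⁻¹) * (x ^ j)⁻¹ by group]
    exact mul_mem (mul_mem hxj hmid) (inv_mem hxj)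

variable {G : Type*} [Group G]

/-- An `ℓ`-subgroup moves into a subgroup carrying the whole `ℓ`-part. -/
theorem exists_conj_le [Finite G] {ℓ : ℕ} [Fact ℓ.Prime] (T0 : Subgroup G)
    (hfac : (Nat.card G).factorization ℓ ≤ (Nat.card T0).factorization ℓ) {Q : Subgroup G}
    (hQ : IsPGroup ℓ Q) : ∃ g : G, ∀ x ∈ Q, g * x * g⁻¹ ∈ T0 := by
  obtain ⟨S⟩ : Nonempty (Sylow ℓ T0) := inferInstance
  obtain ⟨PS, hPS⟩ := (show IsPGroup ℓ ((S : Subgroup T0).map T0.subtype) from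
    S.2.map _).exists_le_sylow
  have hPeq : (PS : Subgroup G) = (S : Subgroup T0).map T0.subtype := by
    refine (Subgroup.eq_of_le_of_card_ge hPS ?_).symm
    rw [PS.card_eq_multiplicity, Subgroup.card_subtype, S.card_eq_multiplicity]
    exact Nat.pow_le_pow_right (Fact.out : ℓ.Prime).pos hfac
  obtain ⟨Q', hQQ'⟩ := hQ.exists_le_sylow
  obtain ⟨g, hg⟩ := MulAction.exists_smul_eq G Q' PS
  refine ⟨g, fun x hx => ?_⟩
  have h1 : g * x * g⁻¹ ∈ ((g • Q' : Sylow ℓ G) : Subgroup G) := by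
    rw [Sylow.coe_subgroup_smul]
    exact ⟨x, hQQ' hx, rfl⟩
  rw [hg, hPeq] at h1
  obtain ⟨y, -, hy⟩ := h1
  rw [← hy]
  exact y.2

/-- Two commuting subgroups of prime power orders move into an abelian subgroup together. -/
theorem exists_conj_le_pair [Finite G] {ℓ m : ℕ} [Fact ℓ.Prime] [Fact m.Prime] (T0 : Subgroup G)
    (hab : ∀ x ∈ T0, ∀ y ∈ T0, Commute x y)
    (hℓ : (Nat.card G).factorization ℓ ≤ (Nat.card T0).factorization ℓ)
    (hm : (Nat.card G).factorization m ≤ (Nat.card T0).factorization m) {Q R : Subgroup G}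
    (hQ : IsPGroup ℓ Q) (hR : IsPGroup m R) (hQR : ∀ x ∈ Q, ∀ y ∈ R, Commute y x) :
    ∃ g : G, ∀ x, x ∈ Q ∨ x ∈ R → g * x * g⁻¹ ∈ T0 := by
  classical
  obtain ⟨g, hg⟩ := exists_conj_le T0 hℓ hQ
  let c := (MulAut.conj g).toMonoidHom
  set C : Subgroup G := Subgroup.centralizer ((Q.map c : Subgroup G) : Set G) with hC
  have hmemC : ∀ z : G, (∀ x ∈ Q, Commute z (g * x * g⁻¹)) → z ∈ C := by
    intro z hz
    rw [hC, Subgroup.mem_centralizer_iff]
    rintro _ ⟨x, hx, rfl⟩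
    exact (hz x hx).eq.symm
  have hTC : T0 ≤ C := fun t ht => hmemC t fun x hx => hab t ht _ (hg x hx)
  have hRC : R.map c ≤ C := by
    rintro _ ⟨y, hy, rfl⟩
    exact hmemC _ fun x hx => (hQR x hx y hy).map (MulAut.conj g)
  obtain ⟨u, hu⟩ := exists_conj_le (G := C) (ℓ := m) (T0.subgroupOf C) (by
      rw [Nat.card_congr (Subgroup.subgroupOfEquivOfLe hTC).toEquiv]
      exact ((Nat.factorization_le_iff_dvd Nat.card_pos.ne' Nat.card_pos.ne').mpr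
        C.card_subgroup_dvd_card m).trans hm)
    ((hR.map c).of_equiv (Subgroup.subgroupOfEquivOfLe hRC).symm)
  refine ⟨u * g, fun x hx => ?_⟩
  rw [show (u : G) * g * x * ((u : G) * g)⁻¹ = u * (g * x * g⁻¹) * (u : G)⁻¹ by group]
  rcases hx with hx | hx
  · have h2 : Commute (u : G) (g * x * g⁻¹) :=
      ((Subgroup.mem_centralizer_iff.mp u.2) (c x) ⟨x, hx, rfl⟩).symm
    rw [h2.eq, mul_inv_cancel_right]
    exact hg x hx
  · exact Subgroup.mem_subgroupOf.mp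
      (hu ⟨g * x * g⁻¹, hRC ⟨x, hx, rfl⟩⟩ ⟨x, hx, rfl⟩)

/-- A property of the conjugation action which holds on the torus for all cell representatives
holds on pairs of subgroups moved into it. -/
theorem pair_action {T0 : Subgroup G} {g h : G} {X : Set G}
    (hX : ∀ x ∈ X, g * x * g⁻¹ ∈ T0) (hh : ∀ x ∈ X, h * x * h⁻¹ ∈ X) {n : G}
    (hn : ∀ t ∈ T0, g * h * g⁻¹ * t * (g * h * g⁻¹)⁻¹ ∈ T0 →
      g * h * g⁻¹ * t * (g * h * g⁻¹)⁻¹ = n * t * n⁻¹) :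
    ∀ k : ℕ, ∀ x ∈ X, g * (h ^ k * x * (h ^ k)⁻¹) * g⁻¹ =
      n ^ k * (g * x * g⁻¹) * (n ^ k)⁻¹ := by
  have one : ∀ x ∈ X, g * (h * x * h⁻¹) * g⁻¹ = n * (g * x * g⁻¹) * n⁻¹ := by
    intro x hx
    have e1 : g * (h * x * h⁻¹) * g⁻¹ = g * h * g⁻¹ * (g * x * g⁻¹) * (g * h * g⁻¹)⁻¹ := by group
    rw [e1]
    exact hn _ (hX x hx) (e1 ▸ hX _ (hh x hx))
  intro k
  induction k with
  | zero => intro x _; simp
  | succ k ih =>
    intro x hx
    rw [pow_succ, pow_succ, show h ^ k * h * x * (h ^ k * h)⁻¹ =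
      h ^ k * (h * x * h⁻¹) * (h ^ k)⁻¹ by group, ih _ (hh x hx), one x hx]
    group

end CfsgLib.ToralSection
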